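import Groth.Prelude.Def_AlgSpRep
import Mathlib.AlgebraicGeometry.Sites.Fpqc
import Mathlib.AlgebraicGeometry.Morphisms.UniversallyOpen
/-!
Zariski sheaves covered fppf locally by subsheaves are fppf sheaves.
-/

set_option autoImplicit false
set_option backward.isDefEq.respectTransparency false
set_option backward.isDefEq.respectTransparency.types false
set_option linter.style.haveILetI false

universe u v

open CategoryTheory CategoryTheory.Limits AlgebraicGeometry Opposite

namespace Groth.Agent.SubShfGlue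

open _root_.AlgSp

variable {S : Scheme.{u}} {F G : PSp S}

/-- Being in the image of a subfunctor representable by sheaves is fppf local. -/
theorem mem_range_of_cover {m : G ⟶ F} [Mono m] (hm : RepBySp m) {T : Over S} (s : F.obj (op T))
    {R : Sieve T} (hR : R ∈ J S T)
    (h : ∀ ⦃W : Over S⦄ (f : W ⟶ T), R.arrows f → F.map f.op s ∈ Set.range (m.app (op W))) :
    s ∈ Set.range (m.app (op T)) := by
  let ξ : (pyon S).obj T ⟶ F := uliftYonedaEquiv.{u + 1}.symm s
  have sq := IsPullback.of_hasPullback m ξ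
  obtain ⟨hs, -⟩ := hm ξ _ _ sq
  have hF' := (isSheaf_iff_isSheaf_of_type _ _).1 hs R hR
  have hsec : ∀ ⦃W : Over S⦄ (f : W ⟶ T), R.arrows f → ∃ e : (pullback m ξ).obj (op W),
      (pullback.snd m ξ).app (op W) e = ⟨f⟩ := by
    intro W f hf
    obtain ⟨z, hz⟩ := h f hf
    have e0 : uliftYonedaEquiv.{u + 1}.symm z ≫ m = (pyon S).map f ≫ ξ := by
      apply uliftYonedaEquiv.{u + 1}.injective
      rw [uliftYonedaEquiv_comp, Equiv.apply_symm_apply, hz]
      rfl
    refine ⟨uliftYonedaEquiv.{u + 1} (pullback.lift _ _ e0), ?_⟩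
    rw [← uliftYonedaEquiv_comp, pullback.lift_snd]
    exact congrArg ULift.up (Category.id_comp f)
  have hinj : ∀ W, Function.Injective ((pullback.snd m ξ).app W) := fun W => by
    haveI : Mono ((pullback.snd m ξ).app W) := inferInstance
    exact (mono_iff_injective _).1 inferInstance
  choose e he using hsec
  obtain ⟨e₀, he₀, -⟩ := hF' (fun W f hf => e f hf) (fun W₁ W₂ V g₁ g₂ f₁ f₂ h₁ h₂ w => by
    apply hinj
    rw [NatTrans.naturality_apply, NatTrans.naturality_apply, he, he]
    exact congrArg ULift.up w)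
  have hid : (pullback.snd m ξ).app (op T) e₀ = ⟨𝟙 T⟩ := by
    have hY : Presheaf.IsSheaf (J S) ((pyon S).obj T) := ((yon S).obj T).property
    refine ((isSheaf_iff_isSheaf_of_type _ _).1 hY R hR).isSeparatedFor.ext fun W f hf => ?_
    rw [← NatTrans.naturality_apply, he₀ f hf, he f hf]
    exact congrArg ULift.up (Category.comp_id f).symm
  refine ⟨(pullback.fst m ξ).app (op T) e₀, ?_⟩
  have := ConcreteCategory.congr_hom (congrArg (fun k : pullback m ξ ⟶ F => k.app (op T)) sq.w) e₀
  simp only [NatTrans.comp_app, ConcreteCategory.comp_apply] at this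
  rw [this, hid]
  exact ConcreteCategory.congr_hom (F.map_id _) s

/-- An fppf map factors as an fppf covering of an open subscheme of the target. -/
theorem exists_open_factorization {W T : Over S} (f : W ⟶ T) [Flat f.left] [LocallyOfFinitePresentation f.left] :
    ∃ (O : Over S) (j : O ⟶ T) (g : W ⟶ O), IsOpenImmersion j.left ∧ Set.range j.left = Set.range f.left ∧
      g ≫ j = f ∧ Sieve.generate (Presieve.singleton g) ∈ J S O := by
  let U : T.left.Opens := ⟨Set.range f.left, f.left.isOpenMap.isOpen_range⟩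
  let j : Over.mk (U.ι ≫ T.hom) ⟶ T := Over.homMk U.ι rfl
  let gl : W.left ⟶ (U : Scheme.{u}) := IsOpenImmersion.lift U.ι f.left (by rw [Scheme.Opens.range_ι]; rfl)
  have hgl : gl ≫ U.ι = f.left := IsOpenImmersion.lift_fac _ _ _
  let g : W ⟶ Over.mk (U.ι ≫ T.hom) := Over.homMk gl (by
    change gl ≫ U.ι ≫ T.hom = W.hom
    rw [reassoc_of% hgl, Over.w])
  haveI : Flat gl := by
    have : Flat (gl ≫ U.ι) := by rw [hgl]; infer_instance
    exact MorphismProperty.of_postcomp (W' := @IsOpenImmersion) (W := @Flat) gl U.ι inferInstance this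
  haveI : LocallyOfFinitePresentation gl := by
    have : LocallyOfFinitePresentation (gl ≫ U.ι) := by rw [hgl]; infer_instance
    exact MorphismProperty.of_postcomp (W' := @IsOpenImmersion) (W := @LocallyOfFinitePresentation) gl U.ι inferInstance this
  haveI : Surjective gl := ⟨fun z => by
    obtain ⟨w, hw⟩ := z.2
    exact ⟨w, U.ι.isOpenEmbedding.injective (by rw [← Scheme.Hom.comp_apply, hgl, hw]; rfl)⟩⟩
  refine ⟨_, j, g, inferInstanceAs (IsOpenImmersion U.ι), Scheme.Opens.range_ι U, Over.OverMorphism.ext hgl, ?_⟩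
  rw [GrothendieckTopology.mem_over_iff]
  refine GrothendieckTopology.superset_covering _ ?_
    (Precoverage.generate_mem_toGrothendieck gl.singleton_mem_fppfPrecoverage)
  rw [Sieve.generate_le_iff]
  rintro _ _ ⟨⟩
  exact ⟨W, g, 𝟙 _, ⟨W, 𝟙 _, g, Presieve.singleton_self _, Category.id_comp _⟩, (Category.id_comp _).symm⟩

/-- A Zariski covering of a scheme over `S`. -/
theorem zariski_cover_mem {T : Over S} {κ : Type v} (O : κ → Over S) (j : ∀ k, O k ⟶ T)
    (hj : ∀ k, IsOpenImmersion (j k).left) (hcov : ∀ t, ∃ k, t ∈ Set.range (j k).left) :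
    Sieve.generate (Presieve.ofArrows O j) ∈ QuotSh.J Scheme.zariskiPrecoverage S T := by
  rw [GrothendieckTopology.mem_over_iff]
  choose k hk using hcov
  refine GrothendieckTopology.superset_covering _ ?_
    (Precoverage.generate_mem_toGrothendieck (R := Presieve.ofArrows (fun t => (O (k t)).left) (fun t => (j (k t)).left))
      ((Scheme.ofArrows_mem_precoverage_iff _).2 ⟨fun t => ⟨t, hk t⟩, fun t => hj (k t)⟩))
  rw [Sieve.generate_le_iff]
  rintro _ _ ⟨t⟩
  exact ⟨O (k t), j (k t), 𝟙 _, ⟨_, 𝟙 _, _, Presieve.ofArrows.mk _, Category.id_comp _⟩, (Category.id_comp _).symm⟩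

theorem zariski_le : QuotSh.J Scheme.zariskiPrecoverage S ≤ J S := fun T R hR => by
  rw [GrothendieckTopology.mem_over_iff] at hR ⊢
  exact Precoverage.toGrothendieck_mono Scheme.zariskiPrecoverage_le_fppfPrecoverage _ hR

/-- A covering sieve contains a jointly surjective family of fppf maps. -/
theorem exists_fppf_family {T : Over S} {R : Sieve T} (hR : R ∈ J S T) (t : T.left) :
    ∃ (W : Over S) (f : W ⟶ T), R.arrows f ∧ Flat f.left ∧ LocallyOfFinitePresentation f.left ∧
      t ∈ Set.range f.left := by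
  have : (min (α := MorphismProperty Scheme.{u}) @Flat @LocallyOfFinitePresentation).ContainsIdentities :=
    ⟨fun X => ⟨(inferInstance : Flat (𝟙 X)), (inferInstance : LocallyOfFinitePresentation (𝟙 X))⟩⟩
  have : Scheme.fppfPrecoverage.{u}.HasIsos := inferInstanceAs
    ((Scheme.precoverage (min (α := MorphismProperty Scheme.{u}) @Flat @LocallyOfFinitePresentation)).HasIsos)
  have : Scheme.fppfPrecoverage.{u}.HasPullbacks := inferInstanceAs
    ((Scheme.precoverage (min (α := MorphismProperty Scheme.{u}) @Flat @LocallyOfFinitePresentation)).HasPullbacks)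
  rw [GrothendieckTopology.mem_over_iff, Precoverage.mem_toGrothendieck_iff_of_isStableUnderComposition] at hR
  obtain ⟨R₀, hR₀, hle⟩ := hR
  obtain ⟨Y, k, ⟨hk⟩, hY⟩ := hR₀.1 t
  obtain ⟨Z, a, b, ha, hb⟩ := hle _ _ hk
  let b' : Over.mk (_ ≫ T.hom) ⟶ Z := Over.homMk b (by
    rw [← Over.w a]
    exact (Category.assoc _ _ _).symm.trans (congrArg (· ≫ T.hom) hb.symm))
  refine ⟨_, b' ≫ a, R.downward_closed ha b', ?_⟩
  rw [show (b' ≫ a).left = _ from hb.symm]
  exact ⟨(hR₀.2 hk).1, (hR₀.2 hk).2, hY⟩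

/-- A Zariski sheaf covered fppf locally by subsheaves representable over it is an fppf sheaf. -/
theorem isSheaf_of_subsheaves (h1 : Presheaf.IsSheaf (QuotSh.J Scheme.zariskiPrecoverage S) F) {ι : Type v}
    (Fi : ι → PSp S) (m : ∀ i, Fi i ⟶ F) [∀ i, Mono (m i)] (ha : ∀ i, Presheaf.IsSheaf (J S) (Fi i))
    (hb : ∀ i, RepBySp (m i))
    (hc : ∀ (T : Over S) (x : F.obj (op T)), ∃ R ∈ (J S) T,
      ∀ ⦃T' : Over S⦄ (f : T' ⟶ T), R.arrows f → ∃ i, F.map f.op x ∈ Set.range ((m i).app (op T'))) :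
    Presheaf.IsSheaf (J S) F := by
  rw [isSheaf_iff_isSheaf_of_type] at h1 ⊢
  have hinj : ∀ i W, Function.Injective ((m i).app W) := fun i W => (mono_iff_injective _).1 inferInstance
  have hFi : ∀ i, Presieve.IsSheaf (J S) (Fi i) := fun i => (isSheaf_iff_isSheaf_of_type _ _).1 (ha i)
  have hrange : ∀ i {V W : Over S} (f : W ⟶ V) {s : F.obj (op V)}, s ∈ Set.range ((m i).app (op V)) →
      F.map f.op s ∈ Set.range ((m i).app (op W)) := fun i V W f s ⟨y, hy⟩ =>
    ⟨(Fi i).map f.op y, by rw [NatTrans.naturality_apply, hy]⟩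
  -- separatedness
  have sep : ∀ {T : Over S} {R : Sieve T}, R ∈ J S T → ∀ a b : F.obj (op T),
      (∀ ⦃W : Over S⦄ (f : W ⟶ T), R.arrows f → F.map f.op a = F.map f.op b) → a = b := by
    intro T R hR a b hab
    obtain ⟨Ra, hRa, hRa'⟩ := hc T a
    have key : ∀ t : T.left, ∃ (O : Over S) (j : O ⟶ T), IsOpenImmersion j.left ∧ t ∈ Set.range j.left ∧
        F.map j.op a = F.map j.op b := by
      intro t
      obtain ⟨W, f, hf, hfl, hfp, ht⟩ := exists_fppf_family ((J S).intersection_covering hR hRa) t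
      obtain ⟨O, j, g, hj, hrg, hgj, hg⟩ := exists_open_factorization f
      obtain ⟨i, hi⟩ := hRa' f hf.2
      have hab' : F.map f.op a = F.map f.op b := hab f hf.1
      have hfg : ∀ c : F.obj (op T), F.map g.op (F.map j.op c) = F.map f.op c := fun c => by
        rw [← Functor.map_comp_apply, ← op_comp, hgj]
      have hmem : ∀ c : F.obj (op T), F.map f.op c ∈ Set.range ((m i).app (op W)) →
          F.map j.op c ∈ Set.range ((m i).app (op O)) := fun c hc => by
        refine mem_range_of_cover (hb i) _ hg fun V k hk => ?_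
        obtain ⟨Z, l, e, ⟨⟩, rfl⟩ := hk
        rw [op_comp, Functor.map_comp_apply, hfg]
        exact hrange i l hc
      obtain ⟨y, hy⟩ := hmem a hi
      obtain ⟨y', hy'⟩ := hmem b (hab' ▸ hi)
      refine ⟨O, j, hj, hrg ▸ ht, ?_⟩
      rw [← hy, ← hy']
      refine congrArg _ (((hFi i) _ hg).isSeparatedFor.ext fun V k hk => hinj i _ ?_)
      rw [NatTrans.naturality_apply, NatTrans.naturality_apply, hy, hy']
      obtain ⟨Z, l, e, ⟨⟩, rfl⟩ := hk
      rw [op_comp, Functor.map_comp_apply, Functor.map_comp_apply, hfg, hfg, hab']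
    choose O j hj ht he using key
    refine (h1 _ (zariski_cover_mem O j hj fun t => ⟨t, ht t⟩)).isSeparatedFor.ext fun V k hk => ?_
    obtain ⟨Z, l, e, ⟨t⟩, rfl⟩ := hk
    rw [op_comp, Functor.map_comp_apply, Functor.map_comp_apply, he t]
  intro T R hR x hx
  -- the refined sieve
  have hx' := fun {V W : Over S} (f : W ⟶ T) (hf : R.arrows f) (l : V ⟶ W) =>
    (Presieve.compatible_iff_sieveCompatible x).1 hx f l hf
  let R' : Sieve T :=
    { arrows := fun W f => ∃ h : R.arrows f, ∃ i, x f h ∈ Set.range ((m i).app (op W))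
      downward_closed := fun {W V f} hf g => by
        obtain ⟨h, i, hi⟩ := hf
        exact ⟨R.downward_closed h g, i, by rw [hx' f h g]; exact hrange i g hi⟩ }
  have hR' : R' ∈ J S T := (J S).transitive hR R' fun W f hf => by
    obtain ⟨Rx, hRx, hRx'⟩ := hc W (x f hf)
    refine (J S).superset_covering ?_ hRx
    intro V g hg
    obtain ⟨i, hi⟩ := hRx' g hg
    exact ⟨R.downward_closed hf g, i, by rw [hx' f hf g]; exact hi⟩
  have key : ∀ t : T.left, ∃ (O : Over S) (j : O ⟶ T) (z : F.obj (op O)), IsOpenImmersion j.left ∧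
      t ∈ Set.range j.left ∧ ∀ ⦃V : Over S⦄ (h : V ⟶ O) (hh : R.arrows (h ≫ j)), F.map h.op z = x (h ≫ j) hh := by
    intro t
    obtain ⟨W, f, ⟨hf, i, y, hy⟩, hfl, hfp, ht⟩ := exists_fppf_family hR' t
    obtain ⟨O, j, g, hj, hrg, hgj, hg⟩ := exists_open_factorization f
    have hsf := Presieve.isSheafFor_singleton.1 ((Presieve.isSheafFor_iff_generate _).2 ((hFi i) _ hg))
    obtain ⟨y₀, hy₀, -⟩ := hsf y (fun {Z} p₁ p₂ hp => hinj i _ (by
      rw [NatTrans.naturality_apply, NatTrans.naturality_apply, hy, ← hx' f hf p₁, ← hx' f hf p₂]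
      congr 1
      rw [← hgj, reassoc_of% hp]))
    refine ⟨O, j, (m i).app (op O) y₀, hj, hrg ▸ ht, fun V h hh => ?_⟩
    refine sep ((J S).pullback_stable h hg) _ _ fun V' v hv => ?_
    obtain ⟨Z, l, e, ⟨⟩, hl⟩ := hv
    have hRv : R.arrows (v ≫ h ≫ j) := R.downward_closed hh v
    rw [← Functor.map_comp_apply, ← op_comp, ← hl, op_comp, Functor.map_comp_apply,
      ← NatTrans.naturality_apply, hy₀, hy, ← hx' f hf l, ← hx' (h ≫ j) hh v]
    congr 1
    rw [← hgj, reassoc_of% hl]
  choose O j z hj ht hz using key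
  obtain ⟨z₀, hz₀, -⟩ := (Presieve.isSheafFor_arrows_iff F j).1
    ((Presieve.isSheafFor_iff_generate _).2 (h1 _ (zariski_cover_mem O j hj fun t => ⟨t, ht t⟩))) z
    (fun t t' V a b hab => by
      refine sep ((J S).pullback_stable (a ≫ j t) hR) _ _ fun V' v hv => ?_
      have hv1 : R.arrows ((v ≫ a) ≫ j t) := by rw [Category.assoc]; exact hv
      have hv2 : R.arrows ((v ≫ b) ≫ j t') := by rw [Category.assoc, ← hab]; exact hv
      rw [← Functor.map_comp_apply, ← Functor.map_comp_apply, ← op_comp, ← op_comp, hz t (v ≫ a) hv1, hz t' (v ≫ b) hv2]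
      congr 1
      rw [Category.assoc, Category.assoc, hab])
  refine ⟨z₀, fun W f hf => ?_, fun z' hz' => sep hR _ _ fun W f hf => ?_⟩
  · refine sep ((J S).pullback_stable f (zariski_le _ (zariski_cover_mem O j hj fun t => ⟨t, ht t⟩))) _ _
      fun V v hv => ?_
    obtain ⟨Z, l, e, ⟨t⟩, hl⟩ := hv
    have hh : R.arrows (l ≫ j t) := by rw [hl]; exact R.downward_closed hf v
    rw [← Functor.map_comp_apply, ← op_comp, ← hl, op_comp, Functor.map_comp_apply, hz₀ t, hz t l hh, ← hx' f hf v]
    congr 1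
  · rw [hz' f hf]
    symm
    refine sep ((J S).pullback_stable f (zariski_le _ (zariski_cover_mem O j hj fun t => ⟨t, ht t⟩))) _ _
      fun V v hv => ?_
    obtain ⟨Z, l, e, ⟨t⟩, hl⟩ := hv
    have hh : R.arrows (l ≫ j t) := by rw [hl]; exact R.downward_closed hf v
    rw [← Functor.map_comp_apply, ← op_comp, ← hl, op_comp, Functor.map_comp_apply, hz₀ t, hz t l hh, ← hx' f hf v]
    congr 1

end Groth.Agent.SubShfGlue
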